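import Cfsg.Agent.EqLemmas
import Cfsg.Agent.Lib.Schur.Basic
import Cfsg.Agent.Lib.GLOrder.Basic

/-!
# Central covers of `PSL₃(4)` with kernel of exponent two

`card_ker_le`: if `σ : E →* PSL₃(F)` (`|F| = 4`) is a surjection with central kernel of exponent 2
contained in the derived group, the kernel has order at most 4.

Proof: the preimage of each root group is elementary abelian (torus argument), hence the preimage of
the long root group is central in the preimage `H` of the upper unitriangular group, so `H'` is the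
image of the 16-element group `F × F` under the commutator pairing, and by transfer it contains
the kernel.
-/

set_option autoImplicit false

open scoped commutatorElement

namespace Cfsg.Agent.LThreeFour

variable {F : Type*} [Field F]

/-- `PSL₃(F)`. -/
abbrev PSLThree (F : Type*) [Field F] := Matrix.ProjectiveSpecialLinearGroup (Fin 3) F

/-- The projection from `SL₃(F)`. -/
def proj (F : Type*) [Field F] : Matrix.SpecialLinearGroup (Fin 3) F →* PSLThree F :=
  QuotientGroup.mk' _

/-- A root element of `PSL₃(F)`. -/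
def root {i j : Fin 3} (h : i ≠ j) (a : F) : PSLThree F :=
  proj F (Matrix.SpecialLinearGroup.transvection h a)

theorem root_add {i j : Fin 3} (h : i ≠ j) (a b : F) : root h (a + b) = root h a * root h b := by
  rw [root, root, root, ← map_mul]
  rw [← Matrix.SpecialLinearGroup.transvection_add]

theorem root_zero {i j : Fin 3} (h : i ≠ j) : root h (0 : F) = 1 := by
  simp [root]

theorem root_inv {i j : Fin 3} (h : i ≠ j) (a : F) : (root h a)⁻¹ = root h (-a) := by
  rw [inv_eq_iff_mul_eq_one, ← root_add, add_neg_cancel, root_zero]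

theorem root_comm {i j : Fin 3} (h : i ≠ j) (a b : F) : Commute (root h a) (root h b) := by
  rw [Commute, SemiconjBy, ← root_add, ← root_add, add_comm]

theorem exists_scalar_of_proj_eq {A B : Matrix.SpecialLinearGroup (Fin 3) F} (h : proj F A = proj F B) :
    ∃ r : F, (B : Matrix (Fin 3) (Fin 3) F) = (A : Matrix (Fin 3) (Fin 3) F) * Matrix.scalar (Fin 3) r := by
  obtain ⟨r, -, hr⟩ := Matrix.SpecialLinearGroup.mem_center_iff.1 (QuotientGroup.eq.1 h)
  exact ⟨r, by rw [hr, ← Matrix.SpecialLinearGroup.coe_mul, mul_inv_cancel_left]⟩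

section local_lemmas

variable {G : Type*} [Group G] {N : Type*} [Group N]

/-- In a central extension, a commutator only depends on the images. -/
theorem commutator_congr (σ : G →* N) (hσ : σ.ker ≤ Subgroup.center G) {x x' y y' : G}
    (hx : σ x = σ x') (hy : σ y = σ y') : ⁅x, y⁆ = ⁅x', y'⁆ := by
  have key : ∀ {u v : G}, σ u = σ v → ∃ z : G, (∀ g, g * z = z * g) ∧ u = v * z := by
    intro u v h
    exact ⟨v⁻¹ * u, fun g => Subgroup.mem_center_iff.1
      (hσ (by rw [MonoidHom.mem_ker, map_mul, map_inv, h, inv_mul_cancel])) g, by simp⟩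
  obtain ⟨z, hz, rfl⟩ := key hx
  obtain ⟨w, hw, rfl⟩ := key hy
  simp only [commutatorElement_def, mul_inv_rev]
  calc x' * z * (y' * w) * (z⁻¹ * x'⁻¹) * (w⁻¹ * y'⁻¹)
      = x' * (z * y') * (w * (z⁻¹ * x'⁻¹) * w⁻¹) * y'⁻¹ := by group
    _ = x' * (y' * z) * (z⁻¹ * x'⁻¹) * y'⁻¹ := by
        rw [hz y', ← hw (z⁻¹ * x'⁻¹), mul_assoc (z⁻¹ * x'⁻¹) w w⁻¹, mul_inv_cancel, mul_one]
    _ = x' * y' * x'⁻¹ * y'⁻¹ := by group

/-- If `x` and `⁅x, y⁆`, `y` square to one, `⁅x, y⁆` commutes with `y`. -/
theorem commute_commutator_right {x y : G} (hy : y * y = 1) (hc : ⁅x, y⁆ * ⁅x, y⁆ = 1) :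
    Commute ⁅x, y⁆ y := by
  set c := ⁅x, y⁆ with hcdef
  have h1 : c * y = x * y * x⁻¹ := by rw [hcdef, commutatorElement_def]; group
  have h2 : (c * y) * (c * y) = 1 := by
    rw [h1]
    calc x * y * x⁻¹ * (x * y * x⁻¹) = x * (y * y) * x⁻¹ := by group
      _ = 1 := by rw [hy]; group
  have h3 : c * y = y⁻¹ * c⁻¹ := by rw [← mul_inv_rev]; exact eq_inv_of_mul_eq_one_left h2
  rw [inv_eq_of_mul_eq_one_right hy, inv_eq_of_mul_eq_one_right hc] at h3
  exact h3

/-- The derived group of a generated subgroup. -/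
theorem commutator_closure_le (S : Set G) (M : Subgroup G)
    (hgen : ∀ s ∈ S, ∀ t ∈ S, ⁅s, t⁆ ∈ M) (hcen : ∀ m ∈ M, ∀ s ∈ S, Commute s m) :
    ⁅Subgroup.closure S, Subgroup.closure S⁆ ≤ M := by
  have hcen' : ∀ m ∈ M, ∀ g ∈ Subgroup.closure S, Commute g m := by
    intro m hm g hg
    induction hg using Subgroup.closure_induction with
    | mem x hx => exact hcen m hm x hx
    | one => exact Commute.one_left m
    | mul x y _ _ hx hy => exact hx.mul_left hy
    | inv x _ hx => exact hx.inv_left
  have hmulL : ∀ g ∈ Subgroup.closure S, ∀ a b : G, ⁅a, b⁆ ∈ M → ⁅g, b⁆ ∈ M → ⁅g * a, b⁆ ∈ M := by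
    intro g hg a b ha hgb
    have : ⁅g * a, b⁆ = g * ⁅a, b⁆ * g⁻¹ * ⁅g, b⁆ := by simp only [commutatorElement_def]; group
    rw [this, (hcen' _ ha g hg).eq, mul_inv_cancel_right]
    exact mul_mem ha hgb
  have hinv : ∀ g ∈ Subgroup.closure S, ∀ b : G, ⁅g, b⁆ ∈ M → ⁅g⁻¹, b⁆ ∈ M := by
    intro g hg b hgb
    have : ⁅g⁻¹, b⁆ = g⁻¹ * ⁅g, b⁆⁻¹ * g⁻¹⁻¹ := by simp only [commutatorElement_def]; group
    rw [this, (hcen' _ (inv_mem hgb) g⁻¹ (inv_mem hg)).eq, mul_inv_cancel_right]
    exact inv_mem hgb
  have hleft : ∀ t : G, (∀ s ∈ S, ⁅s, t⁆ ∈ M) → ∀ g ∈ Subgroup.closure S, ⁅g, t⁆ ∈ M := by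
    intro t ht g hg
    induction hg using Subgroup.closure_induction with
    | mem x hx => exact ht x hx
    | one => rw [commutatorElement_one_left]; exact one_mem M
    | mul x y hx _ h1 h2 => exact hmulL x hx y t h2 h1
    | inv x hx h1 => exact hinv x hx t h1
  rw [Subgroup.commutator_le]
  intro g hg k hk
  have step : ∀ s ∈ S, ⁅k, s⁆ ∈ M := fun s hs => hleft s (fun r hr => hgen r hr s hs) k hk
  refine hleft k (fun s hs => ?_) g hg
  rw [← commutatorElement_inv]
  exact inv_mem (step s hs)

end local_lemmas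

section root_computations

variable [Fintype F]

/-- The diagonal element `diag(u, u⁻¹, 1)`. -/
def torus (u : F) (hu : u ≠ 0) : Matrix.SpecialLinearGroup (Fin 3) F :=
  ⟨Matrix.diagonal ![u, u⁻¹, 1], by simp [Matrix.det_diagonal, Fin.prod_univ_three, hu]⟩

theorem exists_torus (hF : Fintype.card F = 4) {i j : Fin 3} (h : i ≠ j) :
    ∃ (t : PSLThree F) (ω : F), ω ≠ 1 ∧ ∀ a : F, t * root h a * t⁻¹ = root h (ω * a) := by
  classical
  obtain ⟨u, hu0, hu1⟩ : ∃ u : F, u ≠ 0 ∧ u ≠ 1 := by
    by_contra hh
    push Not at hh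
    have : Fintype.card F ≤ 2 := by
      rw [← Finset.card_univ]
      refine (Finset.card_le_card (fun a _ => ?_)).trans
        (Finset.card_le_two (a := (0 : F)) (b := 1))
      rcases eq_or_ne a 0 with ha | ha
      · simp [ha]
      · simp [hh a ha]
    omega
  have hu3 : u * u * u = 1 := by
    have h4 : u ^ 4 = u := hF ▸ FiniteField.pow_card u
    have h5 : u * (u * u * u - 1) = 0 := by linear_combination h4
    exact sub_eq_zero.1 ((mul_eq_zero.1 h5).resolve_left hu0)
  have hu2 : u * u ≠ 1 := fun h2 => hu1 (by rw [← hu3, h2, one_mul])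
  set d : Fin 3 → F := ![u, u⁻¹, 1] with hd
  have hd0 : ∀ k, d k ≠ 0 := by
    intro k; fin_cases k <;> simp [hd, hu0]
  refine ⟨proj F (torus u hu0), d i * (d j)⁻¹, ?_, fun a => ?_⟩
  · intro he
    have he' : d i = d j := by rwa [mul_inv_eq_one₀ (hd0 j)] at he
    fin_cases i <;> fin_cases j <;> simp [hd] at h he'
    all_goals first
      | exact hu1 he'
      | exact hu1 he'.symm
      | exact hu2 ((eq_inv_iff_mul_eq_one₀ hu0).1 he' ▸ rfl)
      | (apply hu2; field_simp at he'; linear_combination he')
      | (apply hu2; field_simp at he'; linear_combination -he')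
  · have hm : torus u hu0 * Matrix.SpecialLinearGroup.transvection h a =
        Matrix.SpecialLinearGroup.transvection h (d i * (d j)⁻¹ * a) * torus u hu0 := by
      apply Subtype.ext
      rw [Matrix.SpecialLinearGroup.coe_mul, Matrix.SpecialLinearGroup.coe_mul,
        Matrix.SpecialLinearGroup.transvection_coe, Matrix.SpecialLinearGroup.transvection_coe]
      change Matrix.diagonal d * _ = _ * Matrix.diagonal d
      rw [mul_add, add_mul, mul_one, one_mul]
      congr 1
      ext k l
      simp only [Matrix.diagonal_mul, Matrix.mul_diagonal, Matrix.single_apply]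
      by_cases hij : i = k ∧ j = l
      · obtain ⟨rfl, rfl⟩ := hij
        simp only [and_self, if_true]
        field_simp [hd0 j]
      · simp [hij]
    rw [root, root, mul_inv_eq_iff_eq_mul, ← map_mul, ← map_mul, hm]

theorem proj_ext {A B : Matrix.SpecialLinearGroup (Fin 3) F} (h : A = B) : proj F A = proj F B := by
  rw [h]

theorem root_commutator {i j k : Fin 3} (hij : i ≠ j) (hjk : j ≠ k) (hik : i ≠ k) (a b : F) :
    ⁅root hij a, root hjk b⁆ = root hik (a * b) := by
  rw [commutatorElement_def, mul_inv_eq_iff_eq_mul, mul_inv_eq_iff_eq_mul]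
  simp only [root, ← map_mul]
  apply proj_ext
  apply Subtype.ext
  simp [Matrix.SpecialLinearGroup.transvection_coe, mul_add, add_mul, Matrix.single_mul_single_same,
    Matrix.single_mul_single_of_ne, hij.symm, hjk.symm, hik.symm, hij, hjk, hik]
  abel

theorem root_commute_left {i j k : Fin 3} (hij : i ≠ j) (hik : i ≠ k) (a b : F) :
    Commute (root hij a) (root hik b) := by
  rw [Commute, SemiconjBy]
  simp only [root, ← map_mul]
  apply proj_ext
  apply Subtype.ext
  simp [Matrix.SpecialLinearGroup.transvection_coe, mul_add, add_mul, Matrix.single_mul_single_same,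
    Matrix.single_mul_single_of_ne, hij.symm, hik.symm, hij, hik]
  abel

theorem root_commute_right {i j k : Fin 3} (hik : i ≠ k) (hjk : j ≠ k) (a b : F) :
    Commute (root hik a) (root hjk b) := by
  rw [Commute, SemiconjBy]
  simp only [root, ← map_mul]
  apply proj_ext
  apply Subtype.ext
  simp [Matrix.SpecialLinearGroup.transvection_coe, mul_add, add_mul, Matrix.single_mul_single_same,
    Matrix.single_mul_single_of_ne, hjk.symm, hik.symm, hjk, hik]
  abel

theorem exists_third (i j : Fin 3) : ∃ k : Fin 3, i ≠ k ∧ k ≠ j := by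
  revert i j; decide

end root_computations

section cover

variable [Fintype F] {E : Type*} [Group E] {σ : E →* PSLThree F}

/-- The preimage of a root group is elementary abelian. -/
theorem root_elementary (hF : Fintype.card F = 4) (hs : Function.Surjective σ)
    (hc : σ.ker ≤ Subgroup.center E) (h2 : ∀ z ∈ σ.ker, z * z = 1) {i j : Fin 3} (h : i ≠ j) :
    (∀ (x : E) (a : F), σ x = root h a → x * x = 1) ∧
      (∀ (x y : E) (a b : F), σ x = root h a → σ y = root h b → Commute x y) := by
  obtain ⟨k, hik, hkj⟩ := exists_third i j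
  have hcz : ∀ z ∈ σ.ker, ∀ g : E, g * z = z * g := fun z hz g => Subgroup.mem_center_iff.1 (hc hz) g
  have hcomm : ∀ (x y : E) (a b : F), σ x = root h a → σ y = root h b → Commute x y := by
    intro x y a b hx hy
    obtain ⟨u, hu⟩ := hs (root hik a)
    obtain ⟨v, hv⟩ := hs (root hkj 1)
    have hx' : σ ⁅u, v⁆ = σ x := by
      rw [map_commutatorElement, hu, hv, root_commutator hik hkj h, mul_one, hx]
    have hyu : Commute (σ y) (σ u) := by
      rw [hy, hu]; exact root_commute_left h hik b a
    have hyv : Commute (σ y) (σ v) := by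
      rw [hy, hv]; exact root_commute_right h hkj b 1
    have hu' : σ (y * u * y⁻¹) = σ u := by rw [map_mul, map_mul, map_inv, hyu.eq, mul_inv_cancel_right]
    have hv' : σ (y * v * y⁻¹) = σ v := by rw [map_mul, map_mul, map_inv, hyv.eq, mul_inv_cancel_right]
    have hfix : Commute ⁅u, v⁆ y := by
      have h1 : y * ⁅u, v⁆ * y⁻¹ = ⁅y * u * y⁻¹, y * v * y⁻¹⁆ := by
        simp only [commutatorElement_def]; group
      rw [commutator_congr σ hc hu' hv'] at h1
      exact (mul_inv_eq_iff_eq_mul.1 h1).symm
    obtain ⟨z, hz, rfl⟩ : ∃ z ∈ σ.ker, x = ⁅u, v⁆ * z :=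
      ⟨⁅u, v⁆⁻¹ * x, by rw [MonoidHom.mem_ker, map_mul, map_inv, hx', inv_mul_cancel],
        (mul_inv_cancel_left _ _).symm⟩
    exact hfix.mul_left (hcz z hz y).symm
  refine ⟨?_, hcomm⟩
  classical
  obtain ⟨t, ω, hω, ht⟩ := exists_torus hF h
  obtain ⟨th, hth⟩ := hs t
  have h2' : (2 : F) = 0 := by
    obtain ⟨p, hp⟩ := CharP.exists F
    obtain ⟨n, hpp, hn⟩ := FiniteField.card F p
    have hp2 : p = 2 := by
      rw [hF] at hn
      exact (Nat.prime_dvd_prime_iff_eq hpp Nat.prime_two).1
        (hpp.dvd_of_dvd_pow (show p ∣ 2 ^ 2 by rw [show 2 ^ 2 = 4 from rfl, hn]; exact dvd_pow_self p n.pos.ne'))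
    subst hp2
    exact_mod_cast CharP.cast_eq_zero F 2
  intro x a hx
  have hsqz : ∀ (y : E) (b : F), σ y = root h b → y * y ∈ σ.ker := by
    intro y b hy
    rw [MonoidHom.mem_ker, map_mul, hy, ← root_add, show b + b = 0 by linear_combination b * h2', root_zero]
  -- the square is additive and invariant under the torus
  set c := a * (1 + ω)⁻¹ with hcdef
  have hω' : (1 : F) + ω ≠ 0 := fun h0 => hω (by linear_combination h0 - h2')
  obtain ⟨w, hw⟩ := hs (root h c)
  have hw' : σ (th * w * th⁻¹) = root h (ω * c) := by rw [map_mul, map_mul, map_inv, hth, hw, ht]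
  have hprod : σ (w * (th * w * th⁻¹)) = σ x := by
    rw [map_mul, hw, hw', ← root_add, hx, hcdef]
    congr 1
    field_simp
  obtain ⟨z, hz, rfl⟩ : ∃ z ∈ σ.ker, x = w * (th * w * th⁻¹) * z :=
    ⟨(w * (th * w * th⁻¹))⁻¹ * x, by rw [MonoidHom.mem_ker, map_mul, map_inv, hprod, inv_mul_cancel],
      (mul_inv_cancel_left _ _).symm⟩
  set w' := th * w * th⁻¹ with hw'def
  have hww : w' * w' = w * w := by
    rw [hw'def, show th * w * th⁻¹ * (th * w * th⁻¹) = th * (w * w) * th⁻¹ by group,
      hcz _ (hsqz w c hw) th, mul_inv_cancel_right]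
  calc w * w' * z * (w * w' * z) = w * w' * (w * w') * (z * z) := by
        rw [mul_assoc (w * w') z, ← mul_assoc z (w * w'), ← hcz z hz (w * w')]; group
    _ = w * (w' * w) * w' := by rw [h2 z hz, mul_one]; group
    _ = w * (w * w') * w' := by rw [(hcomm w' w _ _ hw' hw).eq]
    _ = w * w * (w' * w') := by group
    _ = 1 := by rw [hww, h2 _ (hsqz w c hw)]

/-- A central extension of `PSL₃(4)` by a group of exponent 2 inside the derived group has kernel of
order at most 4. -/
theorem card_ker_le [Finite E] (hF : Fintype.card F = 4) (hs : Function.Surjective σ)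
    (hc : σ.ker ≤ Subgroup.center E) (h2 : ∀ z ∈ σ.ker, z * z = 1) (hder : σ.ker ≤ commutator E) :
    Nat.card σ.ker ≤ 4 := by
  classical
  have hab : (0 : Fin 3) ≠ 1 := by decide
  have hbc : (1 : Fin 3) ≠ 2 := by decide
  have hac : (0 : Fin 3) ≠ 2 := by decide
  obtain ⟨sqA, -⟩ := root_elementary hF hs hc h2 hab
  obtain ⟨sqB, comB⟩ := root_elementary hF hs hc h2 hbc
  obtain ⟨sqC, comC⟩ := root_elementary hF hs hc h2 hac
  obtain ⟨-, comA⟩ := root_elementary hF hs hc h2 hab
  choose sA hsA using fun a : F => hs (root hab a)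
  choose sB hsB using fun a : F => hs (root hbc a)
  let β : F → F → E := fun a b => ⁅sA a, sB b⁆
  have hβ : ∀ (x y : E) (a b : F), σ x = root hab a → σ y = root hbc b → ⁅x, y⁆ = β a b :=
    fun x y a b hx hy => commutator_congr σ hc (hx.trans (hsA a).symm) (hy.trans (hsB b).symm)
  have hβσ : ∀ a b, σ (β a b) = root hac (a * b) := fun a b => by
    rw [map_commutatorElement, hsA, hsB, root_commutator hab hbc hac]
  have hker : ∀ {u v : E}, σ u = σ v → ∃ z ∈ σ.ker, u = v * z := fun {u v} h =>
    ⟨v⁻¹ * u, by rw [MonoidHom.mem_ker, map_mul, map_inv, h, inv_mul_cancel], by simp⟩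
  -- lifts of the long root group commute with those of the two short ones
  have hcB : ∀ (x y : E) (c b : F), σ x = root hac c → σ y = root hbc b → Commute x y := by
    intro x y c b hx hy
    by_cases hb : b = 0
    · have : y ∈ σ.ker := by rw [MonoidHom.mem_ker, hy, hb, root_zero]
      exact Subgroup.mem_center_iff.1 (hc this) x
    obtain ⟨z, hz, rfl⟩ := hker (show σ x = σ ⁅sA (c * b⁻¹), y⁆ by
      rw [map_commutatorElement, hsA, hy, root_commutator hab hbc hac, hx]; congr 1; field_simp)
    refine Commute.mul_left ?_ (Subgroup.mem_center_iff.1 (hc hz) y).symm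
    refine commute_commutator_right (sqB y b hy) ?_
    exact sqC _ (c * b⁻¹ * b) (by rw [map_commutatorElement, hsA, hy, root_commutator hab hbc hac])
  have hcA : ∀ (x y : E) (c a : F), σ x = root hac c → σ y = root hab a → Commute x y := by
    intro x y c a hx hy
    by_cases ha : a = 0
    · have : y ∈ σ.ker := by rw [MonoidHom.mem_ker, hy, ha, root_zero]
      exact Subgroup.mem_center_iff.1 (hc this) x
    obtain ⟨z, hz, rfl⟩ := hker (show σ x = σ ⁅sB (a⁻¹ * c), y⁆⁻¹ by
      rw [commutatorElement_inv, map_commutatorElement, hy, hsB, root_commutator hab hbc hac, hx]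
      congr 1; field_simp)
    refine Commute.mul_left ?_ (Subgroup.mem_center_iff.1 (hc hz) y).symm
    refine (commute_commutator_right (sqA y a hy) ?_).inv_left
    have hsq : ⁅y, sB (a⁻¹ * c)⁆ * ⁅y, sB (a⁻¹ * c)⁆ = 1 :=
      sqC _ (a * (a⁻¹ * c)) (by rw [map_commutatorElement, hy, hsB, root_commutator hab hbc hac])
    rw [← commutatorElement_inv y, ← mul_inv_rev, hsq, inv_one]
  have hbr : ∀ a a' b, β (a + a') b = β a b * β a' b := by
    intro a a' b
    have h1 : β (a + a') b = ⁅sA a * sA a', sB b⁆ :=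
      (hβ _ _ _ _ (by rw [map_mul, hsA, hsA, root_add]) (hsB b)).symm
    rw [h1, show ⁅sA a * sA a', sB b⁆ = sA a * ⁅sA a', sB b⁆ * (sA a)⁻¹ * ⁅sA a, sB b⁆ by
      simp only [commutatorElement_def]; group]
    rw [← (hcA (β a' b) (sA a) _ _ (hβσ a' b) (hsA a)).eq, mul_inv_cancel_right]
    exact (comC (β a' b) (β a b) _ _ (hβσ a' b) (hβσ a b)).eq
  have hbl : ∀ a b b', β a (b + b') = β a b * β a b' := by
    intro a b b'
    have h1 : β a (b + b') = ⁅sA a, sB b * sB b'⁆ :=
      (hβ _ _ _ _ (hsA a) (by rw [map_mul, hsB, hsB, root_add])).symm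
    rw [h1, show ⁅sA a, sB b * sB b'⁆ = ⁅sA a, sB b⁆ * (sB b * ⁅sA a, sB b'⁆ * (sB b)⁻¹) by
      simp only [commutatorElement_def]; group]
    rw [← (hcB (β a b') (sB b) _ _ (hβσ a b') (hsB b)).eq, mul_inv_cancel_right]
  obtain ⟨ω, hω0, hω1⟩ : ∃ w : F, w ≠ 0 ∧ w ≠ 1 := by
    by_contra hh
    push Not at hh
    have : Fintype.card F ≤ 2 := by
      rw [← Finset.card_univ]
      refine (Finset.card_le_card (fun a _ => ?_)).trans
        (Finset.card_le_two (a := (0 : F)) (b := 1))
      rcases eq_or_ne a 0 with ha | ha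
      · simp [ha]
      · simp [hh a ha]
    omega
  let Φ : Multiplicative (F × F) →* E := MonoidHom.mk'
    (fun p => β 1 (Multiplicative.toAdd p).1 * β ω (Multiplicative.toAdd p).2) (by
      intro p q
      simp only [toAdd_mul, Prod.fst_add, Prod.snd_add]
      rw [hbl, hbl]
      have := (comC (β 1 (Multiplicative.toAdd q).1) (β ω (Multiplicative.toAdd p).2) _ _ (hβσ _ _) (hβσ _ _)).eq
      calc β 1 (Multiplicative.toAdd p).1 * β 1 (Multiplicative.toAdd q).1 *
            (β ω (Multiplicative.toAdd p).2 * β ω (Multiplicative.toAdd q).2)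
          = β 1 (Multiplicative.toAdd p).1 * (β 1 (Multiplicative.toAdd q).1 * β ω (Multiplicative.toAdd p).2) *
              β ω (Multiplicative.toAdd q).2 := by group
        _ = _ := by rw [this]; group)
  have hΦ : ∀ b b', Φ (Multiplicative.ofAdd (b, b')) = β 1 b * β ω b' := fun b b' => rfl
  have hz0 : ∀ b, β 0 b = 1 := by
    intro b
    have h := hbr 0 0 b
    rw [add_zero] at h
    exact left_eq_mul.1 h
  have hz0' : ∀ a, β a 0 = 1 := by
    intro a
    have h := hbl a 0 0
    rw [add_zero] at h
    exact left_eq_mul.1 h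
  have huniv : ∀ a : F, a = 0 ∨ a = 1 ∨ a = ω ∨ a = 1 + ω := by
    intro a
    have hne : (1 : F) + ω ≠ 1 := by simpa using hω0
    have hne' : (1 : F) + ω ≠ ω := by simp
    by_contra hh
    push Not at hh
    obtain ⟨h0, h1, h2, h3⟩ := hh
    by_cases h4 : (1 : F) + ω = 0
    · exact hω1 (by
        have h2' : (2 : F) = 0 := by
          obtain ⟨p, hp⟩ := CharP.exists F
          obtain ⟨n, hpp, hn⟩ := FiniteField.card F p
          have hp2 : p = 2 := by
            rw [hF] at hn
            exact (Nat.prime_dvd_prime_iff_eq hpp Nat.prime_two).1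
              (hpp.dvd_of_dvd_pow (show p ∣ 2 ^ 2 by rw [show 2 ^ 2 = 4 from rfl, hn]; exact dvd_pow_self p n.pos.ne'))
          subst hp2
          exact_mod_cast CharP.cast_eq_zero F 2
        linear_combination h4 - h2')
    have : ({0, 1, ω, 1 + ω, a} : Finset F).card = 5 := by
      simp [hω0.symm, Ne.symm h4, Ne.symm h0, Ne.symm h1, Ne.symm h2, Ne.symm h3, hω1.symm, hne.symm, hne'.symm]
    have h5 := Finset.card_le_univ ({0, 1, ω, 1 + ω, a} : Finset F)
    omega
  have hmemM : ∀ a b, β a b ∈ Φ.range := by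
    intro a b
    rcases huniv a with rfl | rfl | rfl | rfl
    · rw [hz0]; exact one_mem _
    · exact ⟨Multiplicative.ofAdd (b, 0), by rw [hΦ, hz0', mul_one]⟩
    · exact ⟨Multiplicative.ofAdd (0, b), by rw [hΦ, hz0', one_mul]⟩
    · exact ⟨Multiplicative.ofAdd (b, b), by rw [hΦ, hbr]⟩
  have hrange : ∀ m ∈ Φ.range, ∃ c, σ m = root hac c := by
    rintro m ⟨p, rfl⟩
    exact ⟨_, by
      show σ (β 1 (Multiplicative.toAdd p).1 * β ω (Multiplicative.toAdd p).2) = _
      rw [map_mul, hβσ, hβσ, ← root_add]⟩
  -- the preimage of the unitriangular group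
  let S : Set E := {x | (∃ a, σ x = root hab a) ∨ (∃ b, σ x = root hbc b) ∨ (∃ c, σ x = root hac c)}
  let Q : Subgroup (PSLThree F) := (Subgroup.closure S).map σ
  have hQ : ¬ 2 ∣ Q.index := by
    let ψ : F × F × F → Q := fun p => ⟨root hab p.1 * root hbc p.2.1 * root hac p.2.2,
      ⟨sA p.1 * sB p.2.1 * Classical.choose (hs (root hac p.2.2)), mul_mem (mul_mem
        (Subgroup.subset_closure (Or.inl ⟨_, hsA _⟩))
        (Subgroup.subset_closure (Or.inr (Or.inl ⟨_, hsB _⟩))))
        (Subgroup.subset_closure (Or.inr (Or.inr ⟨_, Classical.choose_spec (hs (root hac p.2.2))⟩))),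
        by rw [map_mul, map_mul, hsA, hsB, Classical.choose_spec (hs (root hac p.2.2))]⟩⟩
    have hψ : Function.Bijective ψ := by
      refine ⟨fun p q h => ?_, fun g => ?_⟩
      · have h' := congrArg Subtype.val h
        change root hab p.1 * root hbc p.2.1 * root hac p.2.2 =
          root hab q.1 * root hbc q.2.1 * root hac q.2.2 at h'
        simp only [root, ← map_mul] at h'
        have hm : ∀ u : F × F × F, ((Matrix.SpecialLinearGroup.transvection hab u.1 *
            Matrix.SpecialLinearGroup.transvection hbc u.2.1 *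
            Matrix.SpecialLinearGroup.transvection hac u.2.2 : Matrix.SpecialLinearGroup (Fin 3) F) :
              Matrix (Fin 3) (Fin 3) F) = !![1, u.1, u.2.2 + u.1 * u.2.1; 0, 1, u.2.1; 0, 0, 1] := by
          intro u
          rw [Matrix.SpecialLinearGroup.coe_mul, Matrix.SpecialLinearGroup.coe_mul,
            Matrix.SpecialLinearGroup.transvection_coe, Matrix.SpecialLinearGroup.transvection_coe,
            Matrix.SpecialLinearGroup.transvection_coe]
          ext k l
          fin_cases k <;> fin_cases l <;>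
            simp [Matrix.mul_apply, Fin.sum_univ_three, Matrix.single_apply]
        obtain ⟨r, hr⟩ := exists_scalar_of_proj_eq h'
        rw [hm, hm] at hr
        have e00 := congrFun (congrFun hr 0) 0
        have e01 := congrFun (congrFun hr 0) 1
        have e02 := congrFun (congrFun hr 0) 2
        have e12 := congrFun (congrFun hr 1) 2
        simp [Matrix.mul_apply, Fin.sum_univ_three] at e00 e01 e02 e12
        obtain ⟨p1, p2, p3⟩ := p
        obtain ⟨q1, q2, q3⟩ := q
        simp only [Prod.mk.injEq] at *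
        subst r
        simp at e01 e02 e12
        subst e01
        subst e12
        exact ⟨rfl, rfl, by simpa using e02.symm⟩
      · obtain ⟨g, x, hx, rfl⟩ := g
        suffices H : ∃ p : F × F × F, root hab p.1 * root hbc p.2.1 * root hac p.2.2 = σ x by
          obtain ⟨p, hp⟩ := H
          exact ⟨p, Subtype.ext hp⟩
        have cBC := fun b c => (root_commute_right hac hbc c b : Commute (root hac c) (root (F := F) hbc b))
        have cAC := fun a c => (root_commute_left hab hac a c : Commute (root (F := F) hab a) (root hac c))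
        have hBA : ∀ a b : F, root hbc b * root hab a =
            root hab a * root hbc b * root hac (-(a * b)) := by
          intro a b
          have h := root_commutator hab hbc hac a b
          rw [commutatorElement_def, mul_inv_eq_iff_eq_mul, mul_inv_eq_iff_eq_mul] at h
          rw [← root_inv, eq_mul_inv_iff_mul_eq, h]
          calc root hbc b * root hab a * root hac (a * b)
              = root hbc b * (root hab a * root hac (a * b)) := by group
            _ = root hbc b * root hac (a * b) * root hab a := by rw [(cAC _ _).eq]; group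
            _ = _ := by rw [(cBC _ _).eq]
        have hmul : ∀ p q : F × F × F,
            root hab p.1 * root hbc p.2.1 * root hac p.2.2 * (root hab q.1 * root hbc q.2.1 * root hac q.2.2) =
              root hab (p.1 + q.1) * root hbc (p.2.1 + q.2.1) * root hac (p.2.2 + q.2.2 + -(q.1 * p.2.1)) := by
          rintro ⟨a, b, c⟩ ⟨a', b', c'⟩
          dsimp only
          calc root hab a * root hbc b * root hac c * (root hab a' * root hbc b' * root hac c')
              = root hab a * root hbc b * (root hac c * root hab a') * root hbc b' * root hac c' := by group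
            _ = root hab a * (root hbc b * root hab a') * root hac c * root hbc b' * root hac c' := by
                rw [← (cAC a' c).eq]; group
            _ = root hab a * root hab a' * root hbc b * root hac (-(a' * b)) * (root hac c * root hbc b') * root hac c' := by
                rw [hBA]; group
            _ = root hab a * root hab a' * root hbc b * (root hac (-(a' * b)) * root hbc b') * root hac c * root hac c' := by
                rw [(cBC _ _).eq]; group
            _ = root hab a * root hab a' * (root hbc b * root hbc b') * (root hac (-(a' * b)) * root hac c * root hac c') := by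
                rw [(cBC _ _).eq]; group
            _ = _ := by rw [← root_add, ← root_add, ← root_add, ← root_add]; congr 2; ring
        induction hx using Subgroup.closure_induction with
        | mem y hy =>
          rcases hy with ⟨a, ha⟩ | ⟨b, hb⟩ | ⟨c, hc'⟩
          · exact ⟨(a, 0, 0), by simp [root_zero, ha]⟩
          · exact ⟨(0, b, 0), by simp [root_zero, hb]⟩
          · exact ⟨(0, 0, c), by simp [root_zero, hc']⟩
        | one => exact ⟨(0, 0, 0), by simp [root_zero]⟩
        | mul y y' _ _ hy hy' =>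
          obtain ⟨p, hp⟩ := hy
          obtain ⟨q, hq⟩ := hy'
          exact ⟨(p.1 + q.1, p.2.1 + q.2.1, p.2.2 + q.2.2 + -(q.1 * p.2.1)), by
            rw [map_mul, ← hp, ← hq, hmul]⟩
        | inv y _ hy =>
          obtain ⟨⟨a, b, c⟩, hp⟩ := hy
          refine ⟨(-a, -b, -c + -(a * b)), ?_⟩
          rw [map_inv, eq_inv_iff_mul_eq_one, ← hp, hmul]
          dsimp only
          rw [neg_add_cancel, neg_add_cancel, show -c + -(a * b) + c + -(a * -b) = 0 by ring, root_zero,
            root_zero, root_zero, one_mul, one_mul]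
    have hcardQ : Nat.card Q = 64 := by
      rw [← Nat.card_congr (Equiv.ofBijective ψ hψ), Nat.card_prod, Nat.card_prod, Nat.card_eq_fintype_card, hF]
    have hcard : Nat.card (PSLThree F) = 20160 := by
      rw [PSLThree, GLOrder.card_PSL, GLOrder.card_SL, Nat.card_eq_fintype_card, hF]
      simp only [Fintype.card_fin, show Finset.Ico 1 3 = {1, 2} from rfl]
      decide
    have := Q.card_mul_index
    rw [hcardQ, hcard] at this
    omega
  have hker_le : σ.ker ≤ Subgroup.closure S := fun z hz =>
    Subgroup.subset_closure (Or.inl ⟨0, by rw [root_zero]; exact hz⟩)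
  have hidx : (Subgroup.closure S).index = Q.index :=
    (Subgroup.index_map_eq _ hs hker_le).symm
  have hMle : ⁅Subgroup.closure S, Subgroup.closure S⁆ ≤ Φ.range := by
    refine commutator_closure_le S _ ?_ ?_
    · intro s hs' t ht
      have hbot : ∀ {x y : E}, Commute x y → ⁅x, y⁆ ∈ Φ.range := fun h => by
        rw [commutatorElement_eq_one_iff_commute.2 h]; exact one_mem _
      rcases hs' with ⟨a, ha⟩ | ⟨b, hb⟩ | ⟨c, hc'⟩ <;> rcases ht with ⟨a', ha'⟩ | ⟨b', hb'⟩ | ⟨c', hc''⟩
      · exact hbot (comA _ _ _ _ ha ha')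
      · rw [hβ _ _ _ _ ha hb']; exact hmemM _ _
      · exact hbot (hcA _ _ _ _ hc'' ha).symm
      · rw [← commutatorElement_inv, hβ _ _ _ _ ha' hb]; exact inv_mem (hmemM _ _)
      · exact hbot (comB _ _ _ _ hb hb')
      · exact hbot (hcB _ _ _ _ hc'' hb).symm
      · exact hbot (hcA _ _ _ _ hc' ha')
      · exact hbot (hcB _ _ _ _ hc' hb')
      · exact hbot (comC _ _ _ _ hc' hc'')
    · intro m hm s hs'
      obtain ⟨c, hmc⟩ := hrange m hm
      rcases hs' with ⟨a, ha⟩ | ⟨b, hb⟩ | ⟨c', hc''⟩
      · exact (hcA _ _ _ _ hmc ha).symm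
      · exact (hcB _ _ _ _ hmc hb).symm
      · exact (comC _ _ _ _ hmc hc'').symm
  have hle : σ.ker ≤ Φ.range := by
    intro z hz
    have h := Schur.mem_commutator_of_not_dvd_index (k := 1) Nat.prime_two (Subgroup.closure S)
      (by rw [hidx]; exact hQ) (hker_le hz) (hc hz) (hder hz) (by rw [pow_one, pow_two]; exact h2 z hz)
    have h' := Subgroup.mem_map_of_mem (Subgroup.closure S).subtype h
    rw [Subgroup.map_subtype_commutator] at h'
    exact hMle h'
  -- counting
  let Ψ : Multiplicative (F × F) →* PSLThree F := σ.comp Φ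
  have hΨ : 4 ≤ Nat.card Ψ.range := by
    let f : F → Ψ.range := fun c => ⟨root hac c, ⟨Multiplicative.ofAdd (c, 0), by
      show σ (Φ _) = _
      rw [hΦ, hz0', mul_one, hβσ, one_mul]⟩⟩
    have hf : Function.Injective f := by
      intro c d h
      have h' := congrArg Subtype.val h
      change root hac c = root hac d at h'
      obtain ⟨r, hr⟩ := exists_scalar_of_proj_eq h'
      rw [Matrix.SpecialLinearGroup.transvection_coe, Matrix.SpecialLinearGroup.transvection_coe] at hr
      have e00 := congrFun (congrFun hr 0) 0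
      have e02 := congrFun (congrFun hr 0) 2
      simp [Matrix.mul_apply, Fin.sum_univ_three, Matrix.single_apply] at e00 e02
      subst e00
      simpa [eq_comm] using e02
    calc 4 = Nat.card F := by rw [Nat.card_eq_fintype_card, hF]
      _ ≤ _ := Nat.card_le_card_of_injective f hf
  have hΨk : Nat.card Ψ.ker * Nat.card Ψ.range = 16 := by
    rw [← Subgroup.index_ker, Ψ.ker.card_mul_index, Nat.card_congr Multiplicative.toAdd, Nat.card_prod,
      Nat.card_eq_fintype_card, hF]
  have hk4 : Nat.card Ψ.ker ≤ 4 := by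
    by_contra h
    push Not at h
    have := Nat.mul_le_mul h hΨ
    omega
  refine le_trans ?_ hk4
  refine Nat.card_le_card_of_surjective (fun p : Ψ.ker => (⟨Φ p.1, p.2⟩ : σ.ker)) ?_
  rintro ⟨z, hz⟩
  obtain ⟨p, hp⟩ := hle hz
  exact ⟨⟨p, show σ (Φ p) = 1 by rw [hp]; exact hz⟩, Subtype.ext hp⟩

end cover

end Cfsg.Agent.LThreeFour
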