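import Cfsg.Agent.Lib.LThreeFour.CoverBound
import Cfsg.Prelude.Def_CaseTheorems

/-!
# The cover of `PSL₃(4)` with centre of type `2 × 2` is unique

Two such covers have a common perfect cover inside their fibre product, whose kernel has exponent 2
and hence order at most 4 by `card_ker_le`.
-/

set_option autoImplicit false

open scoped commutatorElement

namespace Cfsg.Agent.LThreeFour

theorem nonempty_equiv {L₁ L₂ : Type*} [Group L₁] [Finite L₁] [Group L₂] [Finite L₂] (F : Type)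
    [Field F] [Fintype F] (hF : Fintype.card F = 4)
    (h₁ : Cfsg.IsQuasisimple L₁) (h₂ : Cfsg.IsQuasisimple L₂)
    (hc₁ : Nat.card (Subgroup.center L₁) = 4) (hc₂ : Nat.card (Subgroup.center L₂) = 4)
    (he₁ : ∀ x ∈ Subgroup.center L₁, x * x = 1) (he₂ : ∀ x ∈ Subgroup.center L₂, x * x = 1)
    (e₁ : L₁ ⧸ Subgroup.center L₁ ≃* Matrix.ProjectiveSpecialLinearGroup (Fin 3) F)
    (e₂ : L₂ ⧸ Subgroup.center L₂ ≃* Matrix.ProjectiveSpecialLinearGroup (Fin 3) F) :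
    Nonempty (L₁ ≃* L₂) := by
  let f₁ : L₁ →* PSLThree F := e₁.toMonoidHom.comp (QuotientGroup.mk' _)
  let f₂ : L₂ →* PSLThree F := e₂.toMonoidHom.comp (QuotientGroup.mk' _)
  have hs₁ : Function.Surjective f₁ := e₁.surjective.comp (QuotientGroup.mk'_surjective _)
  have hs₂ : Function.Surjective f₂ := e₂.surjective.comp (QuotientGroup.mk'_surjective _)
  have hk₁ : ∀ x, f₁ x = 1 ↔ x ∈ Subgroup.center L₁ := fun x => by
    simp [f₁, QuotientGroup.eq_one_iff]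
  have hk₂ : ∀ x, f₂ x = 1 ↔ x ∈ Subgroup.center L₂ := fun x => by
    simp [f₂, QuotientGroup.eq_one_iff]
  -- the fibre product
  let P : Subgroup (L₁ × L₂) :=
    MonoidHom.eqLocus (f₁.comp (MonoidHom.fst L₁ L₂)) (f₂.comp (MonoidHom.snd L₁ L₂))
  have hP : ∀ q : L₁ × L₂, q ∈ P ↔ f₁ q.1 = f₂ q.2 := fun q => Iff.rfl
  let D : Subgroup (L₁ × L₂) := ⁅P, P⁆
  have hDP : D ≤ P := Subgroup.commutator_le.2 fun a ha b hb =>
    mul_mem (mul_mem (mul_mem ha hb) (inv_mem ha)) (inv_mem hb)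
  have hperf₁ : commutator L₁ = ⊤ := h₁.1.commutator_eq_top
  have hperf₂ : commutator L₂ = ⊤ := h₂.1.commutator_eq_top
  have hfst : D.map (MonoidHom.fst L₁ L₂) = ⊤ := by
    have hPm : P.map (MonoidHom.fst L₁ L₂) = ⊤ := by
      rw [eq_top_iff]
      intro x _
      obtain ⟨y, hy⟩ := hs₂ (f₁ x)
      exact ⟨(x, y), (hP _).2 hy.symm, rfl⟩
    rw [Subgroup.map_commutator, hPm, ← commutator_def, hperf₁]
  have hsnd : D.map (MonoidHom.snd L₁ L₂) = ⊤ := by
    have hPm : P.map (MonoidHom.snd L₁ L₂) = ⊤ := by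
      rw [eq_top_iff]
      intro y _
      obtain ⟨x, hx⟩ := hs₁ (f₂ y)
      exact ⟨(x, y), (hP _).2 hx, rfl⟩
    rw [Subgroup.map_commutator, hPm, ← commutator_def, hperf₂]
  let p₁ : D →* L₁ := (MonoidHom.fst L₁ L₂).comp D.subtype
  let p₂ : D →* L₂ := (MonoidHom.snd L₁ L₂).comp D.subtype
  have hp₁ : Function.Surjective p₁ := fun x => by
    obtain ⟨d, hd, rfl⟩ := hfst.ge (Subgroup.mem_top x)
    exact ⟨⟨d, hd⟩, rfl⟩
  have hp₂ : Function.Surjective p₂ := fun x => by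
    obtain ⟨d, hd, rfl⟩ := hsnd.ge (Subgroup.mem_top x)
    exact ⟨⟨d, hd⟩, rfl⟩
  let σ : D →* PSLThree F := f₁.comp p₁
  have hσ₂ : ∀ d : D, σ d = f₂ (p₂ d) := fun d => (hP _).1 (hDP d.2)
  have hσs : Function.Surjective σ := hs₁.comp hp₁
  have hσc : σ.ker ≤ Subgroup.center D := by
    intro d hd
    have a₁ := (hk₁ _).1 hd
    have a₂ : p₂ d ∈ Subgroup.center L₂ := (hk₂ _).1 (by rw [← hσ₂]; exact hd)
    rw [Subgroup.mem_center_iff]
    intro g
    apply Subtype.ext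
    exact Prod.ext (Subgroup.mem_center_iff.1 a₁ (p₁ g)) (Subgroup.mem_center_iff.1 a₂ (p₂ g))
  have hσ2 : ∀ z ∈ σ.ker, z * z = 1 := by
    intro d hd
    apply Subtype.ext
    exact Prod.ext (he₁ _ ((hk₁ _).1 hd)) (he₂ _ ((hk₂ _).1 ((hσ₂ d).symm.trans hd)))
  -- `D` is perfect: `P` is `D` times a central subgroup
  have hdec : ∀ a ∈ P, ∃ d ∈ D, ∃ z : L₁ × L₂, (∀ g, g * z = z * g) ∧ a = d * z := by
    intro a ha
    obtain ⟨d, hd⟩ := hσs (f₁ a.1)
    refine ⟨d, d.2, (d : L₁ × L₂)⁻¹ * a, fun g => ?_, (mul_inv_cancel_left _ _).symm⟩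
    have b₁ : (p₁ d)⁻¹ * a.1 ∈ Subgroup.center L₁ :=
      (hk₁ _).1 (by rw [map_mul, map_inv]; exact inv_mul_eq_one.2 hd)
    have b₂ : (p₂ d)⁻¹ * a.2 ∈ Subgroup.center L₂ :=
      (hk₂ _).1 (by rw [map_mul, map_inv, ← hσ₂, hd]; exact inv_mul_eq_one.2 ((hP _).1 ha))
    exact Prod.ext (Subgroup.mem_center_iff.1 b₁ g.1) (Subgroup.mem_center_iff.1 b₂ g.2)
  have hperfD : commutator D = ⊤ := by
    rw [eq_top_iff]
    intro d _
    have hmem : (d : L₁ × L₂) ∈ ⁅D, D⁆ := by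
      refine (Subgroup.commutator_le.2 ?_ : ⁅P, P⁆ ≤ ⁅D, D⁆) d.2
      intro a ha b hb
      obtain ⟨da, hda, za, hza, rfl⟩ := hdec a ha
      obtain ⟨db, hdb, zb, hzb, rfl⟩ := hdec b hb
      have : ⁅da * za, db * zb⁆ = ⁅da, db⁆ := by
        simp only [commutatorElement_def, mul_inv_rev]
        calc da * za * (db * zb) * (za⁻¹ * da⁻¹) * (zb⁻¹ * db⁻¹)
            = da * (za * db) * (zb * (za⁻¹ * da⁻¹) * zb⁻¹) * db⁻¹ := by group
          _ = da * (db * za) * (za⁻¹ * da⁻¹) * db⁻¹ := by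
              rw [← hza db, ← hzb (za⁻¹ * da⁻¹), mul_assoc (za⁻¹ * da⁻¹) zb zb⁻¹, mul_inv_cancel, mul_one]
          _ = da * db * da⁻¹ * db⁻¹ := by group
      rw [this]
      exact Subgroup.commutator_mem_commutator hda hdb
    rw [← Subgroup.map_subtype_commutator D] at hmem
    obtain ⟨e, he, hed⟩ := hmem
    rwa [Subtype.ext hed] at he
  have hbound : Nat.card σ.ker ≤ 4 :=
    card_ker_le hF hσs hσc hσ2 (by rw [hperfD]; exact le_top)
  have hpc : Nat.card D = Nat.card σ.ker * Nat.card (PSLThree F) := by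
    rw [← σ.ker.card_mul_index, Subgroup.index_ker, MonoidHom.range_eq_top.2 hσs, Subgroup.card_top]
  have hL₁ : Nat.card L₁ = 4 * Nat.card (PSLThree F) := by
    rw [← (Subgroup.center L₁).card_mul_index, hc₁, Subgroup.index]
    congr 1
    exact Nat.card_congr e₁.toEquiv
  have hL₂ : Nat.card L₂ = 4 * Nat.card (PSLThree F) := by
    rw [← (Subgroup.center L₂).card_mul_index, hc₂, Subgroup.index]
    congr 1
    exact Nat.card_congr e₂.toEquiv
  have hle : Nat.card D ≤ 4 * Nat.card (PSLThree F) := hpc ▸ Nat.mul_le_mul hbound le_rfl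
  have b₁ : Function.Bijective p₁ :=
    hp₁.bijective_of_nat_card_le (hL₁ ▸ hle)
  have b₂ : Function.Bijective p₂ :=
    hp₂.bijective_of_nat_card_le (hL₂ ▸ hle)
  exact ⟨(MulEquiv.ofBijective p₁ b₁).symm.trans (MulEquiv.ofBijective p₂ b₂)⟩

end Cfsg.Agent.LThreeFour
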